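import Cfsg.Agent.Lib.Recog.SporBound.Sound

set_option autoImplicit false
set_option maxRecDepth 20000

/-! Generated certificate data, piece 0: the case FourB collapses (owner: helper29). -/

namespace CfsgLib.Recog.SporBound.J3TFourB
open CfsgLib.Recog.SporBound

noncomputable def ft0 : Q (ℕ) := (.leaf 0x2f0000200003f0000300004f000040000bf0000b0000b1000040000b50000400005f0000300006f0000200007f0000800000f000030000350000200002500002000024000000000060000100000f000000000020000200003200005000042000070000af0000800009f00009000092000060000a20000800008200001000013000010000140000000000100000000005000040000b4000090000a7000080000910000700008700006000071000050000670000400005100003000047000020000310000000002700000000010)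
noncomputable def ct0 : Q (ℕ) := (.leaf 0)
noncomputable def st0 : Q (List ℕ) := (.leaf [62, 63, 0x100001000000000000040, 0x100001000000000000041, 0x70000600005000040000300002000010000c000010000200003000040000500006000070000800008000100000100009000100001e, 0x60000600005000040000300002000010000c00001000020000300004000050000600007000080000900000000110000a000000001e, 0x90000800007000060001000001000040000a0000400017, 0x800011000080000f00008000110000000006000090000100008, 0x7000120000900000000030000a0000000007, 0x400005000060000500010000130000300003000070000200017, 0x3000020000300004000140000100004000040000400017, 0xc000010000200001000150000300002000030000200017, 0xc00016000000000e00000000000000c00016000050000300000000020000b, 0xc0000c000160001700000000160000c0001700000000170000d00000000170000d000000000c00016000170000000016000010001300000000020000d, 0x100001000170000d000170000100004000000000100018, 0x10000b00001000170000d000170000200004000000000400019, 0x2000020001a0000100002000020000000011, 0x1200008000070000600005000040000300002000010000c00001000020000300004000050000600007000120000800007000060000500004000030000200001000000001a000000000000042, 0x10001c000070000000003000070000000007, 0x20001d000060000000003000060000000001, 0x30001e000050000000003000050000000007, 0x30001b000030000a00000000040000b0000400019, 0x200001f000040002000000000040000b0000000011, 0xa000210000a0001f000040000a000210000a0001f0000400020000000000b0000b0000800015,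 0x30001f00004000220000a0001f0000400003000020001900002000030001f00004000220000a0001f00004000000001200004000010001c, 0x230001f0000200023000040000200003000050000000001, 0x24000230000100024000030000200003000040000000007])
noncomputable def et0 : Q (List ℕ) := (.leaf [0x17000000000200000, 0xc0000100000, 0x160000100000, 0x170000e000170000300000, 0x170000d000170000300000, 0xb0000100000, 0x180000100000, 0x25000010000200000])

end CfsgLib.Recog.SporBound.J3TFourB
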